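import Cfsg.Prelude.Def_AxialAlgebras

/-! Eigenvectors and fusion facts for Majorana pairs. -/

set_option autoImplicit false

namespace Cfsg.Agent.Lib.Majorana.Basic

open Cfsg.Axial

variable {V : Type*} [AddCommGroup V] [Module ℝ V] {mul : V →ₗ[ℝ] V →ₗ[ℝ] V}
  {B : LinearMap.BilinForm ℝ V}

theorem mem_eigen {a v : V} {c : ℝ} : v ∈ eigen mul a c ↔ mul a v = c • v :=
  Module.End.mem_eigenspace_iff

theorem eigenSum_empty (a : V) : eigenSum mul a (∅ : Set ℝ) = ⊥ := by
  simp [eigenSum]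

theorem eigenSum_insert (a : V) (c : ℝ) (S : Set ℝ) :
    eigenSum mul a (insert c S) = eigen mul a c ⊔ eigenSum mul a S :=
  iSup_insert

theorem eigenSum_single (a : V) (c : ℝ) : eigenSum mul a {c} = eigen mul a c := by
  simp [eigenSum]

theorem law_00 : monsterLaw (1 / 4 : ℝ) (1 / 32) 0 0 = {0} := by
  simp [monsterLaw]

theorem law_0q : monsterLaw (1 / 4 : ℝ) (1 / 32) 0 (1 / 4) = {1 / 4} := by
  simp only [monsterLaw]; norm_num

theorem law_qq : monsterLaw (1 / 4 : ℝ) (1 / 32) (1 / 4) (1 / 4) = {1, 0} := by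
  simp only [monsterLaw]; norm_num

theorem law_0b : monsterLaw (1 / 4 : ℝ) (1 / 32) 0 (1 / 32) = {1 / 32} := by
  simp only [monsterLaw]; norm_num

theorem law_qb : monsterLaw (1 / 4 : ℝ) (1 / 32) (1 / 4) (1 / 32) = {1 / 32} := by
  simp only [monsterLaw]; norm_num

theorem law_bb : monsterLaw (1 / 4 : ℝ) (1 / 32) (1 / 32) (1 / 32) = {1, 0, 1 / 4} := by
  simp only [monsterLaw]; norm_num

variable {μ : V ≃ₗ[ℝ] V} {a : V}

theorem idem (h : IsMajoranaPair mul B μ a) : mul a a = a := h.2.2.1.1.2.1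

theorem fusion (h : IsMajoranaPair mul B μ a) {c d : ℝ} (hc : c ∈ majoranaSpectrum)
    (hd : d ∈ majoranaSpectrum) {u v : V} (hu : mul a u = c • u) (hv : mul a v = d • v) :
    mul u v ∈ eigenSum mul a (monsterLaw (1 / 4) (1 / 32) c d) :=
  h.2.2.1.1.2.2.2 c hc d hd u (mem_eigen.2 hu) v (mem_eigen.2 hv)

theorem fusion_00 (h : IsMajoranaPair mul B μ a) {u v : V} (hu : mul a u = 0) (hv : mul a v = 0) :
    mul a (mul u v) = 0 := by
  have := fusion h (c := 0) (d := 0) (by simp [majoranaSpectrum]) (by simp [majoranaSpectrum])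
    (u := u) (v := v) (by simpa using hu) (by simpa using hv)
  rw [law_00, eigenSum_single, mem_eigen] at this
  simpa using this

theorem fusion_0q (h : IsMajoranaPair mul B μ a) {u v : V} (hu : mul a u = 0)
    (hv : mul a v = (1 / 4 : ℝ) • v) : mul a (mul u v) = (1 / 4 : ℝ) • mul u v := by
  have := fusion h (c := 0) (d := 1 / 4) (by simp [majoranaSpectrum]) (by simp [majoranaSpectrum])
    (u := u) (v := v) (by simpa using hu) hv
  rwa [law_0q, eigenSum_single, mem_eigen] at this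

theorem fusion_qq (h : IsMajoranaPair mul B μ a) {u v : V} (hu : mul a u = (1 / 4 : ℝ) • u)
    (hv : mul a v = (1 / 4 : ℝ) • v) : mul u v ∈ eigenSum mul a {1, 0} := by
  have := fusion h (c := 1 / 4) (d := 1 / 4) (by simp [majoranaSpectrum]) (by simp [majoranaSpectrum])
    hu hv
  rwa [law_qq] at this

/-- On the sum of the `1`- and `0`-eigenspaces multiplication by `a` is idempotent. -/
theorem idem_of_mem_oneZero {x : V} (hx : x ∈ eigenSum mul a {1, 0}) : mul a (mul a x) = mul a x := by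
  rw [eigenSum_insert, eigenSum_single, Submodule.mem_sup] at hx
  obtain ⟨y, hy, z, hz, rfl⟩ := hx
  rw [mem_eigen, one_smul] at hy
  rw [mem_eigen, zero_smul] at hz
  simp [hy, hz]

/-- A vector in both the `1/4`-eigenspace and the `{1, 0}`-part is zero. -/
theorem eq_zero_of_quarter {x : V} (hq : mul a x = (1 / 4 : ℝ) • x)
    (hx : x ∈ eigenSum mul a {1, 0}) : x = 0 := by
  have h := idem_of_mem_oneZero hx
  rw [hq, map_smul, hq, smul_smul] at h
  have h2 : ((1 / 4 * (1 / 4) : ℝ) - 1 / 4) • x = 0 := by rw [sub_smul, h, sub_self]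
  exact (smul_eq_zero.1 h2).resolve_left (by norm_num)

theorem form_eigen_eq_zero (hV : IsMajoranaAmbient mul B) (h : IsMajoranaPair mul B μ a)
    {c : ℝ} (hc : c ≠ 1) {v : V} (hv : mul a v = c • v) : B a v = 0 := by
  have h1 : B a v = c * B a v := by
    calc B a v = B (mul a a) v := by rw [idem h]
      _ = B a (mul a v) := (hV.2.2.2.1 a a v).symm
      _ = c * B a v := by rw [hv, map_smul, smul_eq_mul]
  have : (c - 1) * B a v = 0 := by linarith
  exact (mul_eq_zero.1 this).resolve_left (sub_ne_zero.2 hc)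

theorem map_eigen (φ : V ≃ₗ[ℝ] V) (hφ : ∀ u v, φ (mul u v) = mul (φ u) (φ v)) (a : V) (c : ℝ) :
    (eigen mul a c).map (φ : V →ₗ[ℝ] V) = eigen mul (φ a) c := by
  ext x
  simp only [Submodule.mem_map, mem_eigen]
  constructor
  · rintro ⟨y, hy, rfl⟩
    show mul (φ a) (φ y) = c • φ y
    rw [← hφ, hy, map_smul]
  · intro hx
    refine ⟨φ.symm x, ?_, by simp⟩
    apply φ.injective
    rw [hφ, map_smul, φ.apply_symm_apply, hx]

theorem map_eigenSum (φ : V ≃ₗ[ℝ] V) (hφ : ∀ u v, φ (mul u v) = mul (φ u) (φ v)) (a : V) (S : Set ℝ) :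
    (eigenSum mul a S).map (φ : V →ₗ[ℝ] V) = eigenSum mul (φ a) S := by
  simp only [eigenSum, Submodule.map_iSup, map_eigen φ hφ]

/-- Conjugating a Majorana pair by an automorphism of the algebra. -/
theorem pair_map {φ : V ≃ₗ[ℝ] V} (hφ : ∀ u v, φ (mul u v) = mul (φ u) (φ v))
    (hφB : ∀ u v, B (φ u) (φ v) = B u v) {μ' : V ≃ₗ[ℝ] V} (hμ : ∀ x, μ' (φ x) = φ (μ x))
    (h : IsMajoranaPair mul B μ a) : IsMajoranaPair mul B μ' (φ a) := by
  obtain ⟨hm, hB, ⟨⟨hne, hid, htop, hfus⟩, hprim⟩, hfix, hneg⟩ := h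
  have hs : ∀ {S : Set ℝ} {x : V}, x ∈ eigenSum mul (φ a) S → ∃ y ∈ eigenSum mul a S, φ y = x := by
    intro S x hx
    rw [← map_eigenSum φ hφ, Submodule.mem_map] at hx
    exact hx
  have he : ∀ {c : ℝ} {x : V}, x ∈ eigen mul (φ a) c → ∃ y ∈ eigen mul a c, φ y = x := by
    intro c x hx
    rw [← map_eigen φ hφ, Submodule.mem_map] at hx
    exact hx
  refine ⟨?_, ?_, ⟨⟨?_, ?_, ?_, ?_⟩, ?_⟩, ?_, ?_⟩
  · intro u v
    obtain ⟨u, rfl⟩ := φ.surjective u
    obtain ⟨v, rfl⟩ := φ.surjective v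
    rw [← hφ, hμ, hμ, hμ, hm, hφ]
  · intro u v
    obtain ⟨u, rfl⟩ := φ.surjective u
    obtain ⟨v, rfl⟩ := φ.surjective v
    rw [hμ, hμ, hφB, hφB, hB]
  · simpa using hne
  · rw [← hφ, hid]
  · rw [← map_eigenSum φ hφ, htop, Submodule.map_top, LinearMap.range_eq_top]
    exact φ.surjective
  · intro c hc d hd u hu v hv
    obtain ⟨u', hu', rfl⟩ := he hu
    obtain ⟨v', hv', rfl⟩ := he hv
    rw [← hφ, ← map_eigenSum φ hφ]
    exact Submodule.mem_map_of_mem (hfus c hc d hd u' hu' v' hv')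
  · rw [← map_eigen φ hφ, hprim, Submodule.map_span, Set.image_singleton]
    rfl
  · intro x hx
    obtain ⟨y, hy, rfl⟩ := hs hx
    show μ' (φ y) = φ y
    rw [hμ, show μ y = y from hfix y hy]
  · intro x hx
    obtain ⟨y, hy, rfl⟩ := he hx
    show μ' (φ y) = -φ y
    rw [hμ, show μ y = -y from hneg y hy, map_neg]

/-- A vector fixed by the involution has no `1/32`-part. -/
theorem decomp_of_fixed (hV : IsMajoranaAmbient mul B) (h : IsMajoranaPair mul B μ a)
    (hn : B a a = 1) {x : V} (hx : μ x = x) :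
    ∃ u v, x = (B a x) • a + u + v ∧ mul a u = 0 ∧ mul a v = (1 / 4 : ℝ) • v := by
  obtain ⟨-, -, ⟨⟨-, -, htop, -⟩, hprim⟩, hfix, hneg⟩ := id h
  have hmem : x ∈ eigenSum mul a majoranaSpectrum := htop ▸ Submodule.mem_top
  simp only [majoranaSpectrum, eigenSum_insert, eigenSum_single, hprim, Submodule.mem_sup] at hmem
  obtain ⟨s, hs, r, ⟨u, hu, r', ⟨v, hv, w, hw, rfl⟩, rfl⟩, rfl⟩ := hmem
  obtain ⟨c, rfl⟩ := Submodule.mem_span_singleton.1 hs
  have hS : c • a + u + v ∈ eigenSum mul a {1, 0, 1 / 4} := by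
    simp only [eigenSum_insert, eigenSum_single, hprim]
    exact add_assoc (c • a) u v ▸ Submodule.add_mem_sup hs (Submodule.add_mem_sup hu hv)
  have h1 : μ (c • a + u + v) = c • a + u + v := hfix _ hS
  have h2 : μ w = -w := hneg w hw
  have hw0 : w = 0 := by
    have : μ ((c • a + u + v) + w) = (c • a + u + v) + w := by
      have : (c • a + u + v) + w = c • a + (u + (v + w)) := by abel
      rw [this, hx]
    rw [map_add, h1, h2] at this
    have h3 : (2 : ℝ) • w = 0 := by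
      have := add_left_cancel this
      rw [two_smul]
      nth_rewrite 1 [← this]
      simp
    simpa using h3
  subst hw0
  rw [mem_eigen] at hu hv
  refine ⟨u, v, ?_, by simpa using hu, hv⟩
  have hc : B a (c • a + (u + (v + 0))) = c := by
    simp [hn, form_eigen_eq_zero hV h (by norm_num : (0 : ℝ) ≠ 1) hu,
      form_eigen_eq_zero hV h (by norm_num : (1 / 4 : ℝ) ≠ 1) hv]
  rw [hc]; abel

end Cfsg.Agent.Lib.Majorana.Basic
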