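import Cfsg.Agent.Lib.Majorana.Basic

/-!
Dihedral subalgebras generated by two Majorana axes: the scalar relations behind the Norton-Sakuma theorem.
-/

set_option autoImplicit false

namespace Cfsg.Agent.Lib.Majorana.Dihedral

open Cfsg.Axial Cfsg.Agent.Lib.Majorana.Basic

/-- A sequence of Majorana axes, indexed by the integers, permuted dihedrally by the involutions. -/
structure AxisSeq {V : Type*} [AddCommGroup V] [Module ℝ V] (mul : V →ₗ[ℝ] V →ₗ[ℝ] V)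
    (B : LinearMap.BilinForm ℝ V) where
  ax : ℤ → V
  mu : ℤ → (V ≃ₗ[ℝ] V)
  ambient : IsMajoranaAmbient mul B
  pair : ∀ i, IsMajoranaPair mul B (mu i) (ax i)
  norm : ∀ i, B (ax i) (ax i) = 1
  move : ∀ i j, mu i (ax j) = ax (2 * i - j)

variable {V : Type*} [AddCommGroup V] [Module ℝ V] {mul : V →ₗ[ℝ] V →ₗ[ℝ] V}
  {B : LinearMap.BilinForm ℝ V}

namespace AxisSeq

variable (S : AxisSeq mul B)

/-- The translated sequence. -/
def shift (c : ℤ) : AxisSeq mul B where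
  ax i := S.ax (i + c)
  mu i := S.mu (i + c)
  ambient := S.ambient
  pair i := S.pair _
  norm i := S.norm _
  move i j := by rw [S.move]; congr 1; ring

/-- The arithmetic subsequence of step `k` through `c`. -/
def sub (k c : ℤ) : AxisSeq mul B where
  ax i := S.ax (k * i + c)
  mu i := S.mu (k * i + c)
  ambient := S.ambient
  pair i := S.pair _
  norm i := S.norm _
  move i j := by rw [S.move]; congr 1; ring

include S in
theorem comm (u v : V) : mul u v = mul v u := S.ambient.1 u v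
include S in
theorem symm (u v : V) : B u v = B v u := S.ambient.2.1 u v
include S in
theorem assoc (u v w : V) : B u (mul v w) = B (mul u v) w := S.ambient.2.2.2.1 u v w

theorem idem0 (i : ℤ) : mul (S.ax i) (S.ax i) = S.ax i := idem (S.pair i)

/-- The `σ`-vector of two consecutive axes. -/
noncomputable def sig (i j : ℤ) : V := mul (S.ax i) (S.ax j) - (1 / 32 : ℝ) • (S.ax i + S.ax j)

theorem sig_comm (i j : ℤ) : S.sig i j = S.sig j i := by
  rw [sig, sig, S.comm, add_comm]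

theorem form_reflect (i j k : ℤ) : B (S.ax (2 * i - j)) (S.ax (2 * i - k)) = B (S.ax j) (S.ax k) := by
  rw [← S.move, ← S.move]; exact (S.pair i).2.1 _ _

end AxisSeq

theorem decomp {μ : V ≃ₗ[ℝ] V} {a : V} (hV : IsMajoranaAmbient mul B) (h : IsMajoranaPair mul B μ a)
    (hn : B a a = 1) (x : V) : ∃ u v w, x = (B a x) • a + u + v + w ∧ μ x = (B a x) • a + u + v - w ∧
      mul a u = 0 ∧ mul a v = (1 / 4 : ℝ) • v ∧ mul a w = (1 / 32 : ℝ) • w := by
  obtain ⟨-, -, ⟨⟨-, -, htop, -⟩, hprim⟩, hfix, hneg⟩ := id h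
  have hmem : x ∈ eigenSum mul a majoranaSpectrum := htop ▸ Submodule.mem_top
  simp only [majoranaSpectrum, eigenSum_insert, eigenSum_single, hprim, Submodule.mem_sup] at hmem
  obtain ⟨s, hs, r, ⟨u, hu, r', ⟨v, hv, w, hw, rfl⟩, rfl⟩, rfl⟩ := hmem
  obtain ⟨c, rfl⟩ := Submodule.mem_span_singleton.1 hs
  have hS : c • a + u + v ∈ eigenSum mul a {1, 0, 1 / 4} := by
    simp only [eigenSum_insert, eigenSum_single, hprim]
    exact add_assoc (c • a) u v ▸ Submodule.add_mem_sup hs (Submodule.add_mem_sup hu hv)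
  have h1 : μ (c • a + u + v) = c • a + u + v := hfix _ hS
  have h2 : μ w = -w := hneg w hw
  rw [mem_eigen] at hu hv hw
  have hu0 := form_eigen_eq_zero hV h (by norm_num : (0 : ℝ) ≠ 1) hu
  have hv0 := form_eigen_eq_zero hV h (by norm_num : (1 / 4 : ℝ) ≠ 1) hv
  have hw0 := form_eigen_eq_zero hV h (by norm_num : (1 / 32 : ℝ) ≠ 1) hw
  have hc : B a (c • a + (u + (v + w))) = c := by simp [hn, hu0, hv0, hw0]
  have hx : c • a + (u + (v + w)) = (c • a + u + v) + w := by abel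
  refine ⟨u, v, w, ?_, ?_, by simpa using hu, hv, hw⟩
  · rw [hc, hx]
  · rw [hc, hx, map_add, h1, h2]; abel

/-- On the `{1, 0}`-part, multiplication by the axis is the projection to the axis. -/
theorem mul_oneZero {μ : V ≃ₗ[ℝ] V} {a : V} (hV : IsMajoranaAmbient mul B) (h : IsMajoranaPair mul B μ a)
    (hn : B a a = 1) {x : V} (hx : x ∈ eigenSum mul a {1, 0}) : mul a x = (B a x) • a := by
  rw [eigenSum_insert, eigenSum_single, h.2.2.1.2, Submodule.mem_sup] at hx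
  obtain ⟨y, hy, z, hz, rfl⟩ := hx
  obtain ⟨c, rfl⟩ := Submodule.mem_span_singleton.1 hy
  rw [mem_eigen] at hz
  have hz0 := form_eigen_eq_zero hV h (by norm_num : (0 : ℝ) ≠ 1) hz
  simp [hz, hz0, hn, idem h]

namespace AxisSeq

variable (S : AxisSeq mul B)

/-- First-order facts at the centre `0`. -/
theorem base :
    S.sig 0 1 = S.sig 0 (-1) ∧
    ∀ l : ℝ, B (S.ax 0) (S.ax 1) = l →
    mul (S.ax 0) ((1 / 2 : ℝ) • (S.ax 1 + S.ax (-1)))
        = S.sig 0 1 + (1 / 32 : ℝ) • ((1 / 2 : ℝ) • (S.ax 1 + S.ax (-1))) + (1 / 32 : ℝ) • S.ax 0 ∧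
    mul (S.ax 0) (S.sig 0 1) = (3 * l / 4 - 25 / 1024) • S.ax 0 + (7 / 32 : ℝ) • S.sig 0 1
        + (7 / 1024 : ℝ) • ((1 / 2 : ℝ) • (S.ax 1 + S.ax (-1))) ∧
    B (S.ax 0) (S.sig 0 1) = l - (1 + l) / 32 ∧
    mul (S.ax 0) ((32 : ℝ) • S.sig 0 1 + (1 / 2 : ℝ) • (S.ax 1 + S.ax (-1)) + (1 - 32 * l) • S.ax 0)
        = (1 / 4 : ℝ) • ((32 : ℝ) • S.sig 0 1 + (1 / 2 : ℝ) • (S.ax 1 + S.ax (-1)) + (1 - 32 * l) • S.ax 0) ∧
    mul (S.ax 0) ((7 : ℝ) • ((1 / 2 : ℝ) • (S.ax 1 + S.ax (-1))) + (24 * l - 1) • S.ax 0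
        - (32 : ℝ) • S.sig 0 1) = 0 := by
  obtain ⟨u, v, w, hx, hy, hu, hv, hw⟩ := decomp S.ambient (S.pair 0) (S.norm 0) (S.ax 1)
  rw [S.move, show (2 : ℤ) * 0 - 1 = -1 by norm_num] at hy
  generalize hl : B (S.ax 0) (S.ax 1) = L at hx hy
  have hid := S.idem0 0
  have e1 : S.sig 0 1 = (L * (1 - 1 / 32) - 1 / 32) • S.ax 0 + (1 / 4 - 1 / 32 : ℝ) • v - (1 / 32 : ℝ) • u := by
    rw [sig, hx]; simp [hid, hu, hv, hw]; module
  refine ⟨?_, ?_⟩
  · rw [e1, sig, hy]; simp [hid, hu, hv, hw]; module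
  intro l hll
  subst hll
  refine ⟨?_, ?_, ?_, ?_, ?_⟩
  · rw [e1, hy, hx]; simp [hid, hu, hv, hw]; module
  · rw [e1, hy, hx]; simp [hid, hu, hv, hw]; module
  · rw [sig, map_sub, map_smul, map_add, S.assoc, hid, S.norm, hl]; simp only [smul_eq_mul]; ring
  · rw [e1, hy, hx]; simp [hid, hu, hv, hw]; module
  · rw [e1, hy, hx]; simp [hid, hu, hv, hw]; module

theorem sig_const : ∀ i : ℤ, S.sig i (i + 1) = S.sig 0 1 := by
  have step : ∀ i : ℤ, S.sig i (i + 1) = S.sig (i - 1) i := by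
    intro i
    have h := (S.shift i).base.1
    have e1 : (S.shift i).sig 0 1 = S.sig i (i + 1) := by
      simp [sig, shift, add_comm (1 : ℤ)]
    have e2 : (S.shift i).sig 0 (-1) = S.sig i (i - 1) := by
      simp [sig, shift, sub_eq_add_neg, add_comm (-1 : ℤ)]
    rw [e1, e2, S.sig_comm i (i - 1)] at h
    exact h
  intro i
  induction i using Int.induction_on with
  | zero => rfl
  | succ n ih => rw [step, add_sub_cancel_right]; exact ih
  | pred n ih =>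
    have := step (-(n : ℤ))
    rw [ih] at this
    rw [sub_add_cancel]; exact this.symm

theorem form_step (i : ℤ) : B (S.ax i) (S.ax (i + 1)) = B (S.ax 0) (S.ax 1) := by
  have step : ∀ i : ℤ, B (S.ax i) (S.ax (i + 1)) = B (S.ax (i - 1)) (S.ax i) := by
    intro i
    rw [S.symm (S.ax (i - 1)), ← S.form_reflect i i (i + 1)]
    congr 2 <;> ring
  induction i using Int.induction_on with
  | zero => rfl
  | succ n ih => rw [step, add_sub_cancel_right]; exact ih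
  | pred n ih =>
    have := step (-(n : ℤ))
    rw [ih] at this
    rw [sub_add_cancel]; exact this.symm

theorem mul_sig (i : ℤ) : mul (S.ax i) (S.sig 0 1) = (3 * B (S.ax 0) (S.ax 1) / 4 - 25 / 1024) • S.ax i
    + (7 / 32 : ℝ) • S.sig 0 1 + (7 / 1024 : ℝ) • ((1 / 2 : ℝ) • (S.ax (i + 1) + S.ax (i - 1))) := by
  have h := ((S.shift i).base.2 _ rfl).2.1
  have e1 : (S.shift i).sig 0 1 = S.sig 0 1 := by
    rw [← S.sig_const i]; simp [sig, shift, add_comm (1 : ℤ)]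
  rw [e1] at h
  simp only [shift, zero_add, add_comm (1 : ℤ) i, neg_add_eq_sub] at h
  rw [S.form_step i] at h
  exact h

theorem form_sig (i : ℤ) :
    B (S.ax i) (S.sig 0 1) = B (S.ax 0) (S.ax 1) - (1 + B (S.ax 0) (S.ax 1)) / 32 := by
  have h := ((S.shift i).base.2 _ rfl).2.2.1
  have e1 : (S.shift i).sig 0 1 = S.sig 0 1 := by
    rw [← S.sig_const i]; simp [sig, shift, add_comm (1 : ℤ)]
  rw [e1] at h
  simp only [shift, zero_add, add_comm (1 : ℤ) i] at h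
  rw [S.form_step i] at h
  exact h

theorem form_two (i : ℤ) : B (S.ax i) (S.ax (i + 2)) = B (S.ax 0) (S.ax 2) := by
  have step : ∀ i : ℤ, B (S.ax (i - 1)) (S.ax (i + 1)) = B (S.ax i) (S.ax (i + 2)) := by
    intro i
    have h := S.assoc (S.ax i) (S.ax (i + 1)) (S.sig 0 1)
    have h' := S.assoc (S.ax (i + 1)) (S.ax i) (S.sig 0 1)
    rw [S.comm (S.ax (i + 1)) (S.ax i)] at h'
    rw [← h'] at h
    simp only [S.mul_sig, map_add, map_smul, smul_eq_mul, S.form_sig, add_sub_cancel_right] at h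
    rw [S.symm (S.ax (i + 1)) (S.ax i), S.norm, S.norm, S.symm (S.ax (i + 1)) (S.ax (i - 1)),
      show i + 1 + 1 = i + 2 by ring] at h
    linarith
  induction i using Int.induction_on with
  | zero => rfl
  | succ n ih =>
    have := step ((n : ℤ) + 1)
    rw [add_sub_cancel_right, add_assoc, show (1 : ℤ) + 1 = 2 by norm_num] at this
    rw [← this]; exact ih
  | pred n ih =>
    have := step (-(n : ℤ))
    rw [ih] at this
    rw [sub_add, show (1 : ℤ) - 2 = -1 by norm_num, sub_neg_eq_add]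
    exact this

/-- The product of `σ` with itself, and of the axis with the odd `σ`-vector. -/
theorem second (l m : ℝ) (hl : B (S.ax 0) (S.ax 1) = l) (hm : B (S.ax 0) (S.ax 2) = m) :
    mul (S.sig 0 1) (S.sig 0 1) =
      ((-13 / 1536 : ℝ) + (-5 / 12 : ℝ) * l) • S.sig 0 1
      + ((-245 / 98304 : ℝ) + (49 / 384 : ℝ) * l) • ((1 / 2 : ℝ) • (S.ax 1 + S.ax (-1)))
      + ((-7 / 98304 : ℝ) + (7 / 1536 : ℝ) * m + (-7 / 384 : ℝ) * l + (7 / 6 : ℝ) * l ^ 2) • S.ax 0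
      + (-7 / 1536 : ℝ) • S.sig 0 2 + (49 / 98304 : ℝ) • ((1 / 2 : ℝ) • (S.ax 2 + S.ax (-2)))
      + (7 / 2048 : ℝ) • S.sig 1 (-1) ∧
    mul (S.ax 0) (S.sig 1 (-1)) =
      ((-19 / 48 : ℝ) + (32 / 3 : ℝ) * l) • S.sig 0 1
      + ((-19 / 1536 : ℝ) + (1 / 3 : ℝ) * l) • ((1 / 2 : ℝ) • (S.ax 1 + S.ax (-1)))
      + ((-127 / 3072 : ℝ) + (-1 / 24 : ℝ) * m + (5 / 3 : ℝ) * l + (-32 / 3 : ℝ) * l ^ 2) • S.ax 0
      + (7 / 96 : ℝ) • S.sig 0 2 + (7 / 3072 : ℝ) • ((1 / 2 : ℝ) • (S.ax 2 + S.ax (-2))) := by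
  obtain ⟨h0p, h0s, hBs, hA, hBB⟩ := S.base.2 l hl
  obtain ⟨h0q, h0e, -, -, -⟩ := (S.sub 2 0).base.2 m (by simpa [sub] using hm)
  simp only [sig, sub, mul_zero, mul_one, add_zero, show (2 : ℤ) * -1 = -2 by norm_num] at h0q h0e
  rw [show mul (S.ax 0) (S.ax 2) - (1 / 32 : ℝ) • (S.ax 0 + S.ax 2) = S.sig 0 2 from rfl] at h0q h0e
  have hpp : mul ((1 / 2 : ℝ) • (S.ax 1 + S.ax (-1))) ((1 / 2 : ℝ) • (S.ax 1 + S.ax (-1)))
      = (17 / 32 : ℝ) • ((1 / 2 : ℝ) • (S.ax 1 + S.ax (-1))) + (1 / 2 : ℝ) • S.sig 1 (-1) := by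
    simp only [sig, map_add, map_smul, LinearMap.add_apply, LinearMap.smul_apply, S.idem0,
      S.comm (S.ax (-1)) (S.ax 1)]
    module
  have hps : mul ((1 / 2 : ℝ) • (S.ax 1 + S.ax (-1))) (S.sig 0 1)
      = (3 * l / 4 - 25 / 1024) • ((1 / 2 : ℝ) • (S.ax 1 + S.ax (-1))) + (7 / 32 : ℝ) • S.sig 0 1
        + (7 / 2048 : ℝ) • (S.ax 0 + (1 / 2 : ℝ) • (S.ax 2 + S.ax (-2))) := by
    simp only [map_smul, map_add, LinearMap.add_apply, LinearMap.smul_apply, S.mul_sig, hl]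
    norm_num
    module
  have bpp : B ((1 / 2 : ℝ) • (S.ax 1 + S.ax (-1))) ((1 / 2 : ℝ) • (S.ax 1 + S.ax (-1))) = (1 + m) / 2 := by
    have h := S.form_two (-1)
    rw [show (-1 : ℤ) + 2 = 1 by norm_num, hm] at h
    simp only [map_smul, map_add, LinearMap.add_apply, LinearMap.smul_apply, smul_eq_mul, S.norm, h,
      S.symm (S.ax 1) (S.ax (-1))]
    ring
  have bps : B ((1 / 2 : ℝ) • (S.ax 1 + S.ax (-1))) (S.sig 0 1) = l - (1 + l) / 32 := by
    simp only [map_smul, map_add, LinearMap.add_apply, LinearMap.smul_apply, smul_eq_mul, S.form_sig, hl]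
    ring
  have b0p : B (S.ax 0) ((1 / 2 : ℝ) • (S.ax 1 + S.ax (-1))) = l := by
    have h := S.form_step (-1)
    rw [show (-1 : ℤ) + 1 = 0 by norm_num, S.symm, hl] at h
    simp only [map_smul, map_add, smul_eq_mul, hl, h]
    ring
  have bss : B (S.sig 0 1) (S.sig 0 1) = (3 * l / 4 - 25 / 1024) * l + (7 / 32) * (l - (1 + l) / 32)
      + (7 / 1024) * ((1 + m) / 2) - (1 / 16) * (l - (1 + l) / 32) := by
    have e : B (S.sig 0 1) (S.sig 0 1) = B (S.ax 1) (mul (S.ax 0) (S.sig 0 1))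
        - (1 / 32) * (B (S.ax 0) (S.sig 0 1) + B (S.ax 1) (S.sig 0 1)) := by
      conv_lhs => rw [sig]; arg 1; rw [← sig]
      rw [S.assoc, S.comm (S.ax 1) (S.ax 0)]
      simp [sig]; ring
    have h2 := S.form_two (-1)
    rw [show (-1 : ℤ) + 2 = 1 by norm_num, hm, S.symm] at h2
    rw [e, h0s]
    simp only [map_add, map_smul, smul_eq_mul, S.form_sig, hl, S.norm, S.symm (S.ax 1) (S.ax 0), h2]
    ring
  have hid := S.idem0 0
  have bnn := S.norm 0
  generalize hP : (1 / 2 : ℝ) • (S.ax 1 + S.ax (-1)) = p at h0p h0s hA hBB hpp hps bpp bps b0p ⊢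
  generalize hQ : (1 / 2 : ℝ) • (S.ax 2 + S.ax (-2)) = q at h0q h0e hps ⊢
  generalize hS' : S.sig 0 1 = s at h0p h0s hA hBB hBs hps bps bss ⊢
  generalize he : S.sig 0 2 = e at h0q h0e ⊢
  generalize ho : S.sig 1 (-1) = o at hpp ⊢
  generalize ha : S.ax 0 = a at h0p h0s hA hBB hBs hps h0q h0e b0p hid bnn ⊢
  have hpair : IsMajoranaPair mul B (S.mu 0) a := ha ▸ S.pair 0
  have E1 := fusion_00 hpair hBB hBB
  have E2 := mul_oneZero S.ambient hpair bnn (fusion_qq hpair hA hA)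
  rw [S.assoc, hA] at E2
  have E3 := fusion_0q hpair hBB hA
  simp only [map_add, map_sub, map_smul, LinearMap.add_apply, LinearMap.sub_apply, LinearMap.smul_apply,
    hid, h0p, h0s, h0q, h0e, hpp, hps, S.comm p a, S.comm s a, S.comm s p, smul_eq_mul, bnn,
    S.symm p a, S.symm s a, S.symm s p, bpp, bps, b0p, bss, hBs] at E1 E2 E3
  generalize hZ : mul s s = Z at E1 E2 E3 ⊢
  generalize hX : mul a Z = X at E1 E2 E3
  generalize hY : mul a o = Y at E1 E2 E3 ⊢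
  refine ⟨?_, ?_⟩
  · have hY' : Y = ((-19 / 48 : ℝ) + (32 / 3 : ℝ) * l) • s + ((-19 / 1536 : ℝ) + (1 / 3 : ℝ) * l) • p
      + ((-127 / 3072 : ℝ) + (-1 / 24 : ℝ) * m + (5 / 3 : ℝ) * l + (-32 / 3 : ℝ) * l ^ 2) • a
      + (7 / 96 : ℝ) • e + (7 / 3072 : ℝ) • q := by
      linear_combination (norm := module) (1 / 24 : ℝ) • E1 - (1 / 24 : ℝ) • E2
    have hX' : X = ((-35 / 6144 : ℝ) + (7 / 96 : ℝ) * l) • s + ((-35 / 196608 : ℝ) + (7 / 3072 : ℝ) * l) • p
      + ((271 / 6291456 : ℝ) + (49 / 49152 : ℝ) * m + (-29 / 6144 : ℝ) * l + (157 / 192 : ℝ) * l ^ 2) • a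
      + (-49 / 196608 : ℝ) • e + (-49 / 6291456 : ℝ) • q := by
      linear_combination (norm := module) (49 / 49152 : ℝ) • E2 - (1 / 49152 : ℝ) • E1
    rw [hX', hY'] at E3
    linear_combination (norm := module) (1 / 256 : ℝ) • E3
  · linear_combination (norm := module) (1 / 24 : ℝ) • E1 - (1 / 24 : ℝ) • E2

/-- The invariance of the product `σ σ` as a linear relation among nearby axes. -/
theorem star (l m : ℝ) (hl : B (S.ax 0) (S.ax 1) = l) (hm : B (S.ax 0) (S.ax 2) = m) :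
    (7 / 2 : ℝ) • S.ax 3 = (7 / 2 : ℝ) • (S.ax 2 + S.ax (-2) - S.ax (-1))
      + ((1792 * l - 35) / 2) • (S.ax 1 + S.ax (-1) - S.ax 0 - S.ax 2)
      + (16384 * l ^ 2 - 256 * l + 64 * m - 1) • (S.ax 0 - S.ax 1)
      - (112 : ℝ) • (S.sig 0 2 - S.sig 1 (-1)) := by
  have h0 := (S.second l m hl hm).1
  have h1 := ((S.shift 1).second l m (by simpa [shift, S.form_step 1] using (S.form_step 1).trans hl)
    (by simpa [shift] using (S.form_two 1).trans hm)).1
  have es : (S.shift 1).sig 0 1 = S.sig 0 1 := by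
    rw [← S.sig_const 1]; simp [sig, shift]
  have eo : (S.shift 1).sig 1 (-1) = S.sig 0 2 := by
    rw [show S.sig 0 2 = S.sig 2 0 from S.sig_comm 0 2]; simp [sig, shift]
  have ee : (S.shift 1).sig 0 2 = S.sig 1 (-1) := by
    have h := (S.sub 2 1).base.1
    simp only [sig, sub, mul_zero, mul_one, zero_add, show (2 : ℤ) + 1 = 3 by norm_num,
      show (2 : ℤ) * -1 + 1 = -1 by norm_num] at h
    simpa [sig, shift] using h
  rw [es, eo, ee] at h1
  simp only [shift, show (1 : ℤ) + 1 = 2 by norm_num, show (-1 : ℤ) + 1 = 0 by norm_num,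
    show (2 : ℤ) + 1 = 3 by norm_num, show (-2 : ℤ) + 1 = -1 by norm_num, zero_add] at h1
  linear_combination (norm := module) (98304 / 7 : ℝ) • h0 - (98304 / 7 : ℝ) • h1

end AxisSeq

end Cfsg.Agent.Lib.Majorana.Dihedral
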