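import Cfsg.Agent.Lib.Majorana.Dihedral
import Cfsg.Agent.Lib.Majorana.NSPoly

/-! Norton-Sakuma: some axis of a dihedral sequence returns within six steps. -/

set_option autoImplicit false

namespace Cfsg.Agent.Lib.Majorana.NortonSakuma

open Cfsg.Axial Cfsg.Agent.Lib.Majorana.Dihedral Cfsg.Agent.Lib.Majorana.NSPoly

variable {V : Type*} [AddCommGroup V] [Module ℝ V] {mul : V →ₗ[ℝ] V →ₗ[ℝ] V}
  {B : LinearMap.BilinForm ℝ V} (S : AxisSeq mul B)

/-- Inner product of the zeroth axis with the `n`-th. -/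
def dist (n : ℤ) : ℝ := B (S.ax 0) (S.ax n)

theorem dist_neg (n : ℤ) : dist S (-n) = dist S n := by
  have := S.form_reflect 0 0 n
  simpa [dist] using this

theorem form_odd (i : ℤ) : B (S.ax i) (S.sig (i + 1) (i - 1))
    = 15 / 16 * dist S 1 - (1 - dist S 2) / 32 := by
  have hm : B (S.ax (i - 1)) (S.ax (i + 1)) = dist S 2 := by
    have := S.form_two (i - 1)
    rwa [show i - 1 + 2 = i + 1 by ring] at this
  have h1 : B (S.ax i) (S.ax (i + 1)) = dist S 1 := S.form_step i
  have h2 : B (S.ax i) (S.ax (i - 1)) = dist S 1 := by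
    have := S.form_step (i - 1)
    rw [sub_add_cancel, S.symm] at this
    exact this
  have hs := S.form_sig (i - 1)
  rw [← S.sig_const i] at hs
  have e : B (S.ax i) (mul (S.ax (i + 1)) (S.ax (i - 1)))
      = B (S.ax (i - 1)) (S.sig i (i + 1)) + (1 / 32) * (dist S 1 + dist S 2) := by
    rw [S.assoc, S.symm]
    simp [AxisSeq.sig, S.symm (S.ax (i - 1)) (S.ax i), h2, hm]
    ring
  rw [AxisSeq.sig, map_sub, map_smul, map_add, e, hs, h1, h2]
  simp only [smul_eq_mul, dist]
  ring

theorem sigE_eq (j : ℤ) : S.sig (2 * j) (2 * j + 2) = S.sig 0 2 := by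
  have := (S.sub 2 0).sig_const j
  simpa [AxisSeq.sig, AxisSeq.sub, mul_add] using this

theorem sigO_eq (j : ℤ) : S.sig (2 * j + 1) (2 * j + 3) = S.sig 1 (-1) := by
  have h := (S.sub 2 1).sig_const j
  have h' := (S.sub 2 1).base.1
  simp only [AxisSeq.sig, AxisSeq.sub, mul_zero, mul_one, zero_add, mul_add,
    show (2 : ℤ) + 1 = 3 by norm_num, show (2 : ℤ) * -1 + 1 = -1 by norm_num] at h h'
  rw [h', show 2 * j + 2 + 1 = 2 * j + 3 by ring] at h
  exact h

/-- The linear recursion among axes. -/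
theorem recursion (l m : ℝ) (hl : dist S 1 = l) (hm : dist S 2 = m) (i : ℤ) :
    (7 : ℝ) • S.ax (i + 4) = (7 : ℝ) • S.ax (i - 2) + (1792 * l - 35) • S.ax (i - 1) + kk l m • S.ax i
      - kk l m • S.ax (i + 2) - (1792 * l - 35) • S.ax (i + 3) := by
  have key : ∀ T : AxisSeq mul B, B (T.ax 0) (T.ax 1) = l → B (T.ax 0) (T.ax 2) = m →
      (7 : ℝ) • T.ax 4 = (7 : ℝ) • T.ax (-2) + (1792 * l - 35) • T.ax (-1) + kk l m • T.ax 0
        - kk l m • T.ax 2 - (1792 * l - 35) • T.ax 3 := by
    intro T h1 h2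
    have s0 := T.star l m h1 h2
    have s1 := (T.shift 1).star l m (by simpa [AxisSeq.shift] using (T.form_step 1).trans h1)
      (by simpa [AxisSeq.shift] using (T.form_two 1).trans h2)
    have e1 : (T.shift 1).sig 0 2 = T.sig 1 (-1) := by
      have := sigO_eq T 0
      simpa [AxisSeq.sig, AxisSeq.shift] using this
    have e2 : (T.shift 1).sig 1 (-1) = T.sig 0 2 := by
      rw [show T.sig 0 2 = T.sig 2 0 from T.sig_comm 0 2]; simp [AxisSeq.sig, AxisSeq.shift]
    rw [e1, e2] at s1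
    simp only [AxisSeq.shift, show (1 : ℤ) + 1 = 2 by norm_num, show (-1 : ℤ) + 1 = 0 by norm_num,
      show (2 : ℤ) + 1 = 3 by norm_num, show (-2 : ℤ) + 1 = -1 by norm_num,
      show (3 : ℤ) + 1 = 4 by norm_num, zero_add] at s1
    simp only [kk]
    linear_combination (norm := module) (2 : ℝ) • s0 + (2 : ℝ) • s1
  have := key (S.shift i) (by simpa [AxisSeq.shift, add_comm] using (S.form_step i).trans hl)
    (by simpa [AxisSeq.shift, add_comm] using (S.form_two i).trans hm)
  simpa [AxisSeq.shift, add_comm, sub_eq_add_neg] using this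

theorem dist_next (l m : ℝ) (hl : dist S 1 = l) (hm : dist S 2 = m) (n : ℤ) :
    dist S n = nextTerm l m (dist S (n - 6)) (dist S (n - 5)) (dist S (n - 4)) (dist S (n - 2)) (dist S (n - 1)) := by
  have := congrArg (B (S.ax 0)) (recursion S l m hl hm (n - 4))
  simp only [map_add, map_sub, map_smul, smul_eq_mul, show n - 4 + 4 = n by ring,
    show n - 4 - 2 = n - 6 by ring, show n - 4 - 1 = n - 5 by ring, show n - 4 + 2 = n - 2 by ring,
    show n - 4 + 3 = n - 1 by ring] at this
  simp only [nextTerm, dist]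
  linarith

theorem dist_zero : dist S 0 = 1 := S.norm 0

theorem dist_three (l m : ℝ) (hl : dist S 1 = l) (hm : dist S 2 = m) : dist S 3 = d3 l m := by
  have h := congrArg (B (S.ax 0)) (S.star l m hl hm)
  have n1 : B (S.ax 0) (S.ax (-1)) = l := (dist_neg S 1).trans hl
  have n2 : B (S.ax 0) (S.ax (-2)) = m := (dist_neg S 2).trans hm
  have be : B (S.ax 0) (S.sig 0 2) = m - (1 + m) / 32 := by
    have := (S.sub 2 0).form_sig 0
    simpa [AxisSeq.sig, AxisSeq.sub, show B (S.ax 0) (S.ax 2) = m from hm] using this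
  have bo := form_odd S 0
  rw [zero_add, zero_sub, hl, hm] at bo
  simp only [map_add, map_sub, map_smul, smul_eq_mul, n1, n2, be, bo, S.norm] at h
  rw [show B (S.ax 0) (S.ax 1) = l from hl, show B (S.ax 0) (S.ax 2) = m from hm] at h
  simp only [dist, d3]
  linarith

theorem dist_four (l m : ℝ) (hl : dist S 1 = l) (hm : dist S 2 = m) : dist S 4 = d4 l m := by
  rw [dist_next S l m hl hm 4]
  norm_num [dist_neg, dist_zero, hl, hm, dist_three S l m hl hm]
  simp only [nextTerm, kk, d3, d4]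
  ring

/-- The scalar relation coming from the fourth axis. -/
theorem obstruction_eq_zero (l m : ℝ) (hl : dist S 1 = l) (hm : dist S 2 = m) : obstruction l m = 0 := by
  have h4 := dist_four S l m hl hm
  have h3 := dist_three S l m hl hm
  have hl' : B (S.ax 0) (S.ax 1) = l := hl
  have hm' : B (S.ax 0) (S.ax 2) = m := hm
  have be : ∀ j : ℤ, B (S.ax (2 * j)) (S.sig 0 2) = m - (1 + m) / 32 := by
    intro j
    have := (S.sub 2 0).form_sig j
    simpa [AxisSeq.sig, AxisSeq.sub, hm'] using this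
  have bo : ∀ j : ℤ, B (S.ax (2 * j + 1)) (S.sig 0 2) = 15 / 16 * l - (1 - m) / 32 := by
    intro j
    have := form_odd S (2 * j + 1)
    rw [hl, hm, S.sig_comm, add_sub_cancel_right, show 2 * j + 1 + 1 = 2 * j + 2 by ring, sigE_eq] at this
    exact this
  have bo' : ∀ j : ℤ, B (S.ax (2 * j)) (S.sig 1 (-1)) = 15 / 16 * l - (1 - m) / 32 := by
    intro j
    have := form_odd S (2 * j)
    have e := sigO_eq S (j - 1)
    rw [show 2 * (j - 1) + 1 = 2 * j - 1 by ring, show 2 * (j - 1) + 3 = 2 * j + 1 by ring, S.sig_comm] at e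
    rw [hl, hm, e] at this
    exact this
  have e0 := be 0
  have e2 := be 1
  have em2 := be (-1)
  have em1 := bo (-1)
  have e1 := bo 0
  have e3 := bo 1
  have o0 := bo' 0
  have o2 := bo' 1
  norm_num at e0 e2 em2 em1 e1 e3 o0 o2
  have f24 : B (S.ax 2) (S.ax 4) = m := (S.form_two 2).trans hm'
  have fm22 : B (S.ax 2) (S.ax (-2)) = d4 l m := by
    have h := S.form_reflect 1 0 4
    norm_num at h
    rw [h]; exact h4
  have fm12 : B (S.ax 2) (S.ax (-1)) = d3 l m := by
    have h := S.form_reflect 1 0 3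
    norm_num at h
    rw [h]; exact h3
  have f21 : B (S.ax 2) (S.ax 1) = l := by
    rw [S.symm]; exact (S.form_step 1).trans hl'
  have f20 : B (S.ax 2) (S.ax 0) = m := by rw [S.symm]; exact hm'
  -- the norm of the even sigma-vector
  have bee : B (S.sig 0 2) (S.sig 0 2) = (3 * m / 4 - 25 / 1024) * m + (7 / 32) * (m - (1 + m) / 32)
      + (7 / 1024) * ((1 + d4 l m) / 2) - (1 / 16) * (m - (1 + m) / 32) := by
    have h0e := ((S.sub 2 0).base.2 m (by simpa [AxisSeq.sub] using hm')).2.1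
    simp only [AxisSeq.sig, AxisSeq.sub, mul_zero, mul_one, add_zero,
      show (2 : ℤ) * -1 = -2 by norm_num] at h0e
    change mul (S.ax 0) (S.sig 0 2) = (3 * m / 4 - 25 / 1024) • S.ax 0 + (7 / 32 : ℝ) • S.sig 0 2
      + (7 / 1024 : ℝ) • ((1 / 2 : ℝ) • (S.ax 2 + S.ax (-2))) at h0e
    have e : B (S.sig 0 2) (S.sig 0 2) = B (S.ax 2) (mul (S.ax 0) (S.sig 0 2))
        - (1 / 32) * (B (S.ax 0) (S.sig 0 2) + B (S.ax 2) (S.sig 0 2)) := by
      conv_lhs => rw [AxisSeq.sig]; arg 1; rw [← AxisSeq.sig]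
      rw [S.assoc, S.comm (S.ax 2) (S.ax 0)]
      simp [AxisSeq.sig]; ring
    rw [e, h0e]
    simp only [map_add, map_smul, smul_eq_mul, f20, e0, e2, S.norm, fm22]
    ring
  -- the inner product of the two sigma-vectors
  have beo : B (S.sig 1 (-1)) (S.sig 0 2) = B (S.ax 2) (mul (S.ax 0) (S.sig 1 (-1)))
      - (1 / 16) * (15 / 16 * l - (1 - m) / 32) := by
    rw [S.symm (S.sig 1 (-1))]
    conv_lhs => arg 1; rw [AxisSeq.sig]
    rw [S.assoc, S.comm (S.ax 2) (S.ax 0)]
    simp [o0, o2]; ring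
  rw [(S.second l m hl' hm').2] at beo
  simp only [map_add, map_smul, smul_eq_mul, S.form_sig, hl', f21, fm12, f20, e2, S.norm, fm22] at beo
  have h := congrArg (fun x => B x (S.sig 0 2)) (S.star l m hl' hm')
  simp only [map_add, map_sub, map_smul, LinearMap.add_apply, LinearMap.sub_apply, LinearMap.smul_apply,
    smul_eq_mul, e0, e2, em2, em1, e1, e3, bee, beo] at h
  simp only [obstruction]
  simp only [d3, d4] at h
  linarith

/-- Some axis returns within six steps. -/
theorem exists_return : ∃ n : ℕ, 1 ≤ n ∧ n ≤ 6 ∧ S.ax n = S.ax 0 := by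
  obtain ⟨l, hl⟩ : ∃ l, dist S 1 = l := ⟨_, rfl⟩
  obtain ⟨m, hm⟩ : ∃ m, dist S 2 = m := ⟨_, rfl⟩
  have h3 := dist_three S l m hl hm
  have h4 := dist_four S l m hl hm
  have h5 : dist S 5 = d5 l m := by
    rw [dist_next S l m hl hm 5]; norm_num [dist_neg, dist_zero, hl, h3, h4, d5]
  have h6 : dist S 6 = d6 l m := by
    rw [dist_next S l m hl hm 6]; norm_num [dist_zero, hl, hm, h4, h5, d6]
  have h7 : dist S 7 = d7 l m := by
    rw [dist_next S l m hl hm 7]; norm_num [hl, hm, h3, h5, h6, d7]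
  have h8 : dist S 8 = d8 l m := by
    rw [dist_next S l m hl hm 8]; norm_num [hm, h3, h4, h6, h7, d8]
  have sub2 : ∀ k : ℤ, dist (S.sub 2 0) k = dist S (2 * k) := fun k => by simp [dist, AxisSeq.sub]
  have a1 : dist (S.sub 2 0) 1 = m := by rw [sub2]; exact hm
  have a2 : dist (S.sub 2 0) 2 = d4 l m := by rw [sub2]; exact h4
  have c1 := dist_three _ _ _ a1 a2
  have c2 := dist_four _ _ _ a1 a2
  rw [sub2] at c1 c2
  norm_num at c1 c2
  rw [h6] at c1
  rw [h8] at c2
  have hc := classify l m (obstruction_eq_zero S l m hl hm) (sub_eq_zero.2 c1) (sub_eq_zero.2 c2)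
  have fin : ∀ n : ℕ, dist S n = 1 → S.ax n = S.ax 0 := by
    intro n hn
    by_contra hne
    have := S.ambient.2.2.1 _ (sub_ne_zero.2 hne)
    simp only [map_sub, LinearMap.sub_apply, S.norm, S.symm (S.ax n) (S.ax 0)] at this
    simp only [dist] at hn
    linarith
  rcases hc with h | h | h | h | h | h
  · exact ⟨1, by norm_num, by norm_num, fin 1 (by simpa using hl.trans h)⟩
  · exact ⟨2, by norm_num, by norm_num, fin 2 (by simpa using hm.trans h)⟩
  · exact ⟨3, by norm_num, by norm_num, fin 3 (by simpa using h3.trans h)⟩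
  · exact ⟨4, by norm_num, by norm_num, fin 4 (by simpa using h4.trans h)⟩
  · exact ⟨5, by norm_num, by norm_num, fin 5 (by simpa using h5.trans h)⟩
  · exact ⟨6, by norm_num, by norm_num, fin 6 (by simpa using h6.trans h)⟩

end Cfsg.Agent.Lib.Majorana.NortonSakuma
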